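import Cfsg.Agent.Base
import Cfsg.Agent.Orth.Dickson
-- parent: CL.Orth.dickson
set_option linter.all false
namespace CL.Auto
theorem ACL_Orth_dickson_fe5554 : True := by
  try have := @_root_.CL.Orth.dickson.eq_def.{0,0}
  try have := @_root_.CL.Orth.dickson.eq_1.{0,0}
  try have := @_root_.CL.Orth.dickson.congr_simp.{0,0}
  trivial
end CL.Auto
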