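import Cfsg.Agent.Base
import Cfsg.Agent.Chev.E6Rep
-- parent: CL.Rep.decE6
set_option linter.all false
namespace CL.Auto
theorem ACL_Rep_decE6_881bcd : True := by
  first | have := @_root_.CL.Rep.decE6.eq_def.{0,0,0,0,0,0,0,0} | have := @_root_.CL.Rep.decE6.eq_def.{0,0,0,0,0,0,0} | have := @_root_.CL.Rep.decE6.eq_def.{0,0,0,0,0,0} | have := @_root_.CL.Rep.decE6.eq_def.{0,0,0,0,0} | have := @_root_.CL.Rep.decE6.eq_def.{0,0,0,0} | have := @_root_.CL.Rep.decE6.eq_def.{0,0,0} | have := @_root_.CL.Rep.decE6.eq_def.{0,0} | have := @_root_.CL.Rep.decE6.eq_def.{0} | have := @_root_.CL.Rep.decE6.eq_def | skip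
  first | have := @_root_.CL.Rep.decE6.eq_1.{0,0,0,0,0,0,0,0} | have := @_root_.CL.Rep.decE6.eq_1.{0,0,0,0,0,0,0} | have := @_root_.CL.Rep.decE6.eq_1.{0,0,0,0,0,0} | have := @_root_.CL.Rep.decE6.eq_1.{0,0,0,0,0} | have := @_root_.CL.Rep.decE6.eq_1.{0,0,0,0} | have := @_root_.CL.Rep.decE6.eq_1.{0,0,0} | have := @_root_.CL.Rep.decE6.eq_1.{0,0} | have := @_root_.CL.Rep.decE6.eq_1.{0} | have := @_root_.CL.Rep.decE6.eq_1 | skip
  first | have := @_root_.CL.Rep.decE6.congr_simp.{0,0,0,0,0,0,0,0} | have := @_root_.CL.Rep.decE6.congr_simp.{0,0,0,0,0,0,0} | have := @_root_.CL.Rep.decE6.congr_simp.{0,0,0,0,0,0} | have := @_root_.CL.Rep.decE6.congr_simp.{0,0,0,0,0} | have := @_root_.CL.Rep.decE6.congr_simp.{0,0,0,0} | have := @_root_.CL.Rep.decE6.congr_simp.{0,0,0} | have := @_root_.CL.Rep.decE6.congr_simp.{0,0} | have := @_root_.CL.Rep.decE6.congr_simp.{0} | have := @_root_.CL.Rep.decE6.congr_simp | skip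
  trivial
end CL.Auto
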