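import Cfsg.Agent.Base
import Cfsg.Agent.Spor.SteinerWitt
-- parent: CL.Steiner.f22
set_option linter.all false
namespace CL.Auto
theorem ACL_Steiner_f22_28ec33 : True := by
  try have := @_root_.CL.Steiner.f22.eq_def
  try have := @_root_.CL.Steiner.f22.eq_1
  try have := @_root_.CL.Steiner.f22.congr_simp
  trivial
end CL.Auto
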