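import Cfsg.Agent.Base
-- parent: Representation.prod
set_option linter.all false
namespace CL.Auto
theorem ARepresentation_prod_5ad26f : True := by
  try have := @_root_.Representation.prod.eq_def.{0,0,0,0}
  try have := @_root_.Representation.prod.eq_1.{0,0,0,0}
  try have := @_root_.Representation.prod.congr_simp.{0,0,0,0}
  trivial
end CL.Auto
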