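import Cfsg.Agent.Base
-- parent: Subrepresentation.toRepresentation
set_option linter.all false
namespace CL.Auto
theorem ASubrepresentation_toRepresentation_f3c9a0 : True := by
  try have := @_root_.Subrepresentation.toRepresentation.eq_def.{0,0,0}
  try have := @_root_.Subrepresentation.toRepresentation.eq_1.{0,0,0}
  try have := @_root_.Subrepresentation.toRepresentation.congr_simp.{0,0,0}
  trivial
end CL.Auto
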